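import Groth.Agent.TorUnif.Basic
import Groth.Agent.KChi.TorKoszul
import Groth.Agent.CechX.KoszulPoly

/-!
The polynomial model for `exists_uniform`.
-/

set_option autoImplicit false
set_option linter.style.haveILetI false
set_option backward.isDefEq.respectTransparency false

universe u

open CategoryTheory MvPolynomial

noncomputable section

namespace Groth.Agent.TorUnif

open Groth.Agent.TorProZero

variable {R : Type u} [CommRing R]

/-- The truncation of a polynomial below degree `n`. -/
def trunc (t n : ℕ) : MvPolynomial (Fin t) R →ₗ[R] MvPolynomial (Fin t) R :=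
  (basisMonomials (Fin t) R).constr R fun m => if m.degree < n then monomial m 1 else 0

theorem trunc_monomial (t n : ℕ) (m : Fin t →₀ ℕ) (r : R) :
    trunc t n (monomial m r) = if m.degree < n then monomial m r else 0 := by
  have h : monomial m r = r • basisMonomials (Fin t) R m := by
    rw [coe_basisMonomials, smul_monomial, smul_eq_mul, mul_one]
  rw [h, map_smul, trunc, Module.Basis.constr_basis]
  split_ifs with hm
  · rw [coe_basisMonomials]
  · rw [smul_zero]

theorem trunc_mem (t n : ℕ) (p : MvPolynomial (Fin t) R) :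
    trunc t n p - p ∈ idealOfVars (Fin t) R ^ n := by
  induction p using MvPolynomial.induction_on' with
  | monomial m r =>
    rw [trunc_monomial]
    split_ifs with hm
    · rw [sub_self]; exact Ideal.zero_mem _
    · rw [zero_sub, Ideal.neg_mem_iff]
      by_cases hr : r = 0
      · rw [hr, monomial_zero]; exact Ideal.zero_mem _
      · exact (monomial_mem_pow_idealOfVars_iff n m hr).2 (not_lt.1 hm)
  | add p q hp hq => rw [map_add, add_sub_add_comm]; exact add_mem hp hq

theorem projective_quot_pow (t n : ℕ) :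
    Module.Projective R (MvPolynomial (Fin t) R ⧸ idealOfVars (Fin t) R ^ n) := by
  haveI : Module.Projective R (MvPolynomial (Fin t) R) :=
    Module.Projective.of_basis (basisMonomials (Fin t) R)
  let q : MvPolynomial (Fin t) R →ₗ[R] MvPolynomial (Fin t) R ⧸ idealOfVars (Fin t) R ^ n :=
    (Ideal.Quotient.mkₐ R _).toLinearMap
  have hker : ∀ p ∈ (idealOfVars (Fin t) R ^ n).restrictScalars R, trunc t n p = 0 := by
    intro p hp
    rw [p.as_sum, map_sum]
    refine Finset.sum_eq_zero fun m hm => ?_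
    rw [trunc_monomial, if_neg (not_lt.2 ((mem_pow_idealOfVars_iff n p).1 hp m hm))]
  refine Module.Projective.of_split
    ((Submodule.liftQ ((idealOfVars (Fin t) R ^ n).restrictScalars R) (trunc t n) hker) ∘ₗ
      (Submodule.Quotient.restrictScalarsEquiv R (idealOfVars (Fin t) R ^ n)).symm.toLinearMap) q ?_
  refine LinearMap.ext fun x => ?_
  obtain ⟨p, rfl⟩ := Ideal.Quotient.mk_surjective x
  exact Ideal.Quotient.eq.2 (trunc_mem t n p)

section Shift

variable {t : ℕ} (x : Fin t → R)

/-- The translation of the variables. -/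
def shift : MvPolynomial (Fin t) R ≃ₐ[R] MvPolynomial (Fin t) R :=
  AlgEquiv.ofAlgHom (aeval fun i => X i + C (x i)) (aeval fun i => X i - C (x i))
    (algHom_ext fun i => by simp) (algHom_ext fun i => by simp)

/-- The translated ideal of the variables. -/
def jIdeal : Ideal (MvPolynomial (Fin t) R) :=
  (idealOfVars (Fin t) R).map (shift x : MvPolynomial (Fin t) R →+* MvPolynomial (Fin t) R)

theorem projective_quot_jIdeal (n : ℕ) :
    Module.Projective R (MvPolynomial (Fin t) R ⧸ jIdeal x ^ n) := by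
  haveI := projective_quot_pow (R := R) t n
  exact Module.Projective.of_equiv (Ideal.quotientEquivAlg (idealOfVars (Fin t) R ^ n) (jIdeal x ^ n) (shift x)
    (by rw [jIdeal, ← Ideal.map_pow])).toLinearEquiv

theorem map_jIdeal : (jIdeal x).map (aeval fun _ => (0 : R) : MvPolynomial (Fin t) R →ₐ[R] R) =
    Ideal.span (Set.range x) := by
  rw [jIdeal, idealOfVars, Ideal.map_span, Ideal.map_span, ← Set.range_comp, ← Set.range_comp]
  congr 2
  funext i
  show aeval (fun _ => (0 : R)) (shift x (X i)) = x i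
  simp [shift]

end Shift

theorem projective_level {t : ℕ} (x : Fin t → R) (m n : ℕ) :
    Module.Projective R (Lev (jIdeal x) (Fin m → MvPolynomial (Fin t) R) n) := by
  haveI := projective_quot_jIdeal x n
  haveI : Module.Projective R (Fin m → MvPolynomial (Fin t) R ⧸ jIdeal x ^ n) :=
    Module.Projective.of_equiv ((DFinsupp.linearEquivFunOnFintype (R := R) :
      (Π₀ _ : Fin m, MvPolynomial (Fin t) R ⧸ jIdeal x ^ n) ≃ₗ[R] (Fin m → MvPolynomial (Fin t) R ⧸ jIdeal x ^ n)))
  exact Module.Projective.of_equiv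
    (((TensorProduct.quotTensorEquivQuotSMul (Fin m → MvPolynomial (Fin t) R) (jIdeal x ^ n)).symm.trans
      ((TensorProduct.piScalarRight (MvPolynomial (Fin t) R) (MvPolynomial (Fin t) R)
        (MvPolynomial (Fin t) R ⧸ jIdeal x ^ n) (Fin m)))).symm.restrictScalars R)

theorem aeval_zero_eq_zero_iff {t : ℕ} (p : MvPolynomial (Fin t) R) :
    aeval (fun _ => (0 : R)) p = 0 ↔ p ∈ idealOfVars (Fin t) R := by
  have h : ∀ q, constantCoeff q = aeval (fun _ => (0 : R)) q := fun q => by
    rw [show (aeval fun _ : Fin t => (0 : R)) = aeval (0 : Fin t → R) from rfl, aeval_zero, Algebra.algebraMap_self]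
    rfl
  rw [← h, ← pow_one (idealOfVars (Fin t) R), mem_pow_idealOfVars_iff']
  refine ⟨fun h0 m hm => ?_, fun h0 => h0 0 (by simp)⟩
  obtain rfl : m = 0 := (Finsupp.degree_eq_zero_iff m).1 (Nat.lt_one_iff.1 hm)
  exact h0

/-- Uniform vanishing of the transition maps on Tor above the number of generators. -/
theorem exists_uniform_of_gens [IsNoetherianRing R] {t : ℕ} (x : Fin t → R) (I : Ideal R)
    (hI : I = Ideal.span (Set.range x)) :
    ∃ c : ℕ, ∀ (M : Type u) [AddCommGroup M] [Module R M], ∀ a b : ℕ, ∀ h : b ≤ a, b + c ≤ a →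
      ((Tor (ModuleCat.{u} R) (t + 1)).obj (ModuleCat.of R M)).map (tr I h) = 0 := by
  let l : List (MvPolynomial (Fin t) R) := List.ofFn fun j => X j
  have hl : Ideal.ofList l = idealOfVars (Fin t) R :=
    congrArg Ideal.span (Set.ext fun a => by simp [l, List.mem_ofFn])
  obtain ⟨P, hP⟩ := KChi.exists_resolution l (CechX.isWeaklyRegular_X t)
  have hfree : ∀ k, Module.Free (MvPolynomial (Fin t) R) (P.complex.X k) ∧
      Module.Finite (MvPolynomial (Fin t) R) (P.complex.X k) ∧ (t < k → Subsingleton (P.complex.X k)) := by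
    rw [hP]
    intro k
    refine ⟨(AnnKill.kz_free_finite l (-(k : ℤ))).1, (AnnKill.kz_free_finite l (-(k : ℤ))).2, fun hk => ?_⟩
    exact AnnKill.kz_subsingleton l (-(k : ℤ)) (Or.inr (by simp [l]; omega))
  have hb : ∀ k, ∃ m : ℕ, Nonempty (P.complex.X k ≃ₗ[MvPolynomial (Fin t) R] (Fin m → MvPolynomial (Fin t) R)) := by
    intro k
    haveI := (hfree k).1
    haveI := (hfree k).2.1
    haveI : Fintype (Module.Free.ChooseBasisIndex (MvPolynomial (Fin t) R) (P.complex.X k)) := inferInstance
    exact ⟨_, ⟨((Module.Free.chooseBasis (MvPolynomial (Fin t) R) (P.complex.X k)).reindex (Fintype.equivFin _)).equivFun⟩⟩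
  choose m he using hb
  let e := fun k => (he k).some
  let ev : MvPolynomial (Fin t) R →ₐ[R] R := aeval fun _ => (0 : R)
  have hev : ∀ p ∈ Ideal.ofList l, ev p = 0 := fun p hp => (aeval_zero_eq_zero_iff p).2 (hl ▸ hp)
  let ev' : MvPolynomial (Fin t) R ⧸ Ideal.ofList l →ₐ[R] R := Ideal.Quotient.liftₐ (Ideal.ofList l) ev hev
  let g : P.complex.X 0 →ₗ[MvPolynomial (Fin t) R] MvPolynomial (Fin t) R ⧸ Ideal.ofList l := (P.π.f 0).hom
  have hg := exact_aug P
  let ε : (Fin (m 0) → MvPolynomial (Fin t) R) →ₗ[R] R :=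
    ev'.toLinearMap ∘ₗ ((g ∘ₗ (e 0).symm.toLinearMap).restrictScalars R)
  refine exists_uniform (jIdeal x) I (fun k => Fin (m k) → MvPolynomial (Fin t) R)
    (fun k => (e k).toLinearMap ∘ₗ (P.complex.d (k + 1) k).hom ∘ₗ (e (k + 1)).symm.toLinearMap) ev ε t
    (by rw [hI]; exact map_jIdeal x) ?_ ?_ ?_ ?_ (fun k hk => ?_) (fun n k => projective_level x (m k) n)
  · intro a z
    show ev' (g ((e 0).symm (a • z))) = ev a * ev' (g ((e 0).symm z))
    rw [map_smul, map_smul]
    obtain ⟨q, hq⟩ := Ideal.Quotient.mk_surjective (g ((e 0).symm z))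
    rw [← hq]
    show ev (a • q) = ev a * ev q
    rw [smul_eq_mul, map_mul]
  · intro r
    obtain ⟨y, hy⟩ := hg.2 (Ideal.Quotient.mk _ (C r))
    refine ⟨e 0 y, ?_⟩
    show ev' (g ((e 0).symm (e 0 y))) = r
    rw [LinearEquiv.symm_apply_apply, show g y = Ideal.Quotient.mk _ (C r) from hy]
    show ev (C r) = r
    simp [ev]
  · intro z
    show ev' (g ((e 0).symm z)) = 0 ↔ _
    obtain ⟨q, hq⟩ := Ideal.Quotient.mk_surjective (g ((e 0).symm z))
    have h1 : ev' (g ((e 0).symm z)) = 0 ↔ g ((e 0).symm z) = 0 := by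
      rw [← hq]
      show ev q = 0 ↔ _
      rw [Ideal.Quotient.eq_zero_iff_mem, hl]
      exact aeval_zero_eq_zero_iff q
    rw [h1]
    refine (hg.1 _).trans ⟨fun ⟨y, hy⟩ => ⟨e 1 y, ?_⟩, fun ⟨y, hy⟩ => ⟨(e 1).symm y, ?_⟩⟩
    · show e 0 ((P.complex.d 1 0).hom ((e 1).symm (e 1 y))) = z
      rw [LinearEquiv.symm_apply_apply, hy, LinearEquiv.apply_symm_apply]
    · rw [← hy]
      exact ((e 0).symm_apply_apply _).symm
  · intro k z
    have hk := (ShortComplex.ShortExact.moduleCat_exact_iff_function_exact _).1 (P.exact_succ k)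
    refine ⟨fun hz => ?_, fun ⟨y, hy⟩ => ?_⟩
    · obtain ⟨y, hy⟩ := (hk ((e (k + 1)).symm z)).1 ((e k).map_eq_zero_iff.1 hz)
      refine ⟨e (k + 2) y, ?_⟩
      show e (k + 1) ((P.complex.d (k + 2) (k + 1)).hom ((e (k + 2)).symm (e (k + 2) y))) = z
      rw [LinearEquiv.symm_apply_apply]
      exact (congrArg (e (k + 1)) hy).trans ((e (k + 1)).apply_symm_apply z)
    · subst hy
      show e k ((P.complex.d (k + 1) k).hom ((e (k + 1)).symm (e (k + 1) _))) = 0
      rw [LinearEquiv.symm_apply_apply]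
      exact (congrArg (e k) ((hk _).2 ⟨_, rfl⟩)).trans (map_zero _)
  · haveI := (hfree k).2.2 hk
    exact (e k).symm.toEquiv.subsingleton

end Groth.Agent.TorUnif
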