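import Groth.Agent.TorProZero.Basic

/-!
A complex of projective modules, annihilated in high degrees, through which the transition maps of the
powers of an ideal factor up to homotopy.
-/

set_option autoImplicit false
set_option linter.style.haveILetI false
set_option backward.isDefEq.respectTransparency false

universe u

open CategoryTheory TensorProduct

noncomputable section

namespace Groth.Agent.TorUnif

open Groth.Agent.TorProZero

variable {R A : Type u} [CommRing R] [CommRing A] [Algebra R A] (J : Ideal A)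

theorem tr_self (I : Ideal R) {a : ℕ} (h : a ≤ a) (x : R ⧸ I ^ a) : (tr I h).hom x = x := by
  obtain ⟨r, rfl⟩ := Submodule.Quotient.mk_surjective _ x
  rfl

theorem exists_lift_of_forall {X Y Z : Type u} [AddCommGroup X] [Module R X] [AddCommGroup Y] [Module R Y]
    [AddCommGroup Z] [Module R Z] [Module.Projective R X] (f : Y →ₗ[R] Z) (g : X →ₗ[R] Z)
    (h : ∀ x, ∃ y, f y = g x) : ∃ l : X →ₗ[R] Y, ∀ x, f (l x) = g x := by
  obtain ⟨l, hl⟩ := Module.projective_lifting_property f.rangeRestrict (g.codRestrict (LinearMap.range f) h)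
    f.surjective_rangeRestrict
  exact ⟨l, fun x => congrArg Subtype.val (LinearMap.congr_fun hl x)⟩

section Levels

variable {V W : Type u} [AddCommGroup V] [Module A V] [Module R V] [IsScalarTower R A V]
  [AddCommGroup W] [Module A W] [Module R W] [IsScalarTower R A W]

/-- The level `a` of a module. -/
abbrev Lev (V : Type u) [AddCommGroup V] [Module A V] (a : ℕ) : Type u := V ⧸ (J ^ a • ⊤ : Submodule A V)

/-- A map at level `a`. -/
def mapLev (f : V →ₗ[A] W) (a : ℕ) : Lev J V a →ₗ[R] Lev J W a :=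
  (Submodule.mapQ (J ^ a • ⊤ : Submodule A V) (J ^ a • ⊤ : Submodule A W) f
    ((Submodule.map_le_iff_le_comap).1 (by
      rw [Submodule.map_smul'']; exact Submodule.smul_mono le_rfl le_top))).restrictScalars R

theorem mapLev_mk (f : V →ₗ[A] W) (a : ℕ) (z : V) :
    mapLev (R := R) J f a (Submodule.Quotient.mk z) = Submodule.Quotient.mk (f z) := rfl

/-- The transition map of levels. -/
def trLev {a b : ℕ} (h : b ≤ a) : Lev J V a →ₗ[R] Lev J V b :=
  (Submodule.mapQ (J ^ a • ⊤ : Submodule A V) (J ^ b • ⊤ : Submodule A V) LinearMap.id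
    (Submodule.smul_mono (Ideal.pow_le_pow_right h) le_rfl)).restrictScalars R

theorem trLev_mk {a b : ℕ} (h : b ≤ a) (z : V) :
    trLev (R := R) J h (Submodule.Quotient.mk z) = (Submodule.Quotient.mk z : Lev J V b) := rfl

theorem trLev_mapLev {a b : ℕ} (h : b ≤ a) (f : V →ₗ[A] W) (z : Lev J V a) :
    trLev (R := R) J h (mapLev (R := R) J f a z) = mapLev (R := R) J f b (trLev (R := R) J h z) := by
  obtain ⟨y, rfl⟩ := Submodule.Quotient.mk_surjective _ z
  rfl

/-- Artin–Rees for the image of a map of finite modules. -/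
theorem exists_preimage [IsNoetherianRing A] [Module.Finite A W] (f : V →ₗ[A] W) :
    ∃ c : ℕ, ∀ a, c ≤ a → ∀ z : V, f z ∈ (J ^ a • ⊤ : Submodule A W) →
      ∃ w ∈ (J ^ (a - c) • ⊤ : Submodule A V), f w = f z := by
  obtain ⟨k, hk⟩ := Ideal.exists_pow_inf_eq_pow_smul (M := W) J (LinearMap.range f)
  refine ⟨k, fun a ha z hz => ?_⟩
  have h1 : f z ∈ (J ^ a • ⊤ : Submodule A W) ⊓ LinearMap.range f := ⟨hz, z, rfl⟩
  rw [hk a ha] at h1
  have h2 : f z ∈ J ^ (a - k) • LinearMap.range f := Submodule.smul_mono le_rfl inf_le_right h1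
  rw [LinearMap.range_eq_map, ← Submodule.map_smul''] at h2
  obtain ⟨w, hw, hw'⟩ := h2
  exact ⟨w, hw, hw'⟩

end Levels

section Main

variable (I : Ideal R) (E : ℕ → Type u) [∀ k, AddCommGroup (E k)] [∀ k, Module A (E k)] [∀ k, Module R (E k)]
  [∀ k, IsScalarTower R A (E k)] (d : ∀ k, E (k + 1) →ₗ[A] E k) (ev : A →ₐ[R] R) (ε : E 0 →ₗ[R] R)

/-- The augmentation at level `a`. -/
def augLev (hJ : J.map ev = I) (hε : ∀ (x : A) (z : E 0), ε (x • z) = ev x * ε z) (a : ℕ) :
    Lev J (E 0) a →ₗ[R] R ⧸ I ^ a :=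
  Submodule.liftQ (Submodule.restrictScalars R (J ^ a • ⊤ : Submodule A (E 0)))
      ((Submodule.mkQ (I ^ a)).comp ε) (by
    intro z hz
    rw [LinearMap.mem_ker, LinearMap.comp_apply, Submodule.mkQ_apply, Submodule.Quotient.mk_eq_zero]
    replace hz : z ∈ (J ^ a • ⊤ : Submodule A (E 0)) := hz
    refine Submodule.smul_induction_on hz (fun r hr x _ => ?_) (fun x y hx hy => ?_)
    · rw [hε, ← hJ, ← Ideal.map_pow]
      exact Ideal.mul_mem_right _ _ (Ideal.mem_map_of_mem ev hr)
    · rw [map_add]; exact add_mem hx hy) ∘ₗ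
    (Submodule.Quotient.restrictScalarsEquiv R (J ^ a • ⊤ : Submodule A (E 0))).symm.toLinearMap

theorem augLev_mk (hJ : J.map ev = I) (hε : ∀ (x : A) (z : E 0), ε (x • z) = ev x * ε z) (a : ℕ) (z : E 0) :
    augLev J I E ev ε hJ hε a (Submodule.Quotient.mk z) = Submodule.Quotient.mk (ε z) := rfl

/-- If the powers of `I` are computed by a bounded complex of projective levels, then the transition maps
kill Tor above the bound, uniformly in the module. -/
theorem exists_uniform [IsNoetherianRing A] [∀ k, Module.Finite A (E k)] (t : ℕ) (hJ : J.map ev = I)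
    (hε : ∀ (x : A) (z : E 0), ε (x • z) = ev x * ε z) (hsurj : Function.Surjective ε)
    (hex0 : ∀ z, ε z = 0 ↔ ∃ y, d 0 y = z) (hex : ∀ k, Function.Exact (d (k + 1)) (d k))
    (hbd : ∀ k, t < k → Subsingleton (E k))
    (hproj : ∀ n k, Module.Projective R (Lev J (E k) n)) :
    ∃ c : ℕ, ∀ (M : Type u) [AddCommGroup M] [Module R M], ∀ a b : ℕ, ∀ h : b ≤ a, b + c ≤ a →
      ((Tor (ModuleCat.{u} R) (t + 1)).obj (ModuleCat.of R M)).map (tr I h) = 0 := by
  classical
  choose c₀ hc₀ using fun k => exists_preimage J (d k)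
  obtain ⟨c, hc⟩ : ∃ c, ∀ k, k ≤ t → c₀ k ≤ c :=
    ⟨∑ k ∈ Finset.range (t + 1), c₀ k, fun k hk =>
      Finset.single_le_sum (fun _ _ => Nat.zero_le _) (Finset.mem_range.2 (Nat.lt_succ_of_le hk))⟩
  have dd : ∀ (k : ℕ) (y : E (k + 2)), d k (d (k + 1) y) = 0 := fun k y => (hex k).apply_apply_eq_zero y
  -- exactness in degree zero, at each level
  have ex0 : ∀ (n : ℕ) (q : Lev J (E 0) n), augLev J I E ev ε hJ hε n q = 0 →
      ∃ y : Lev J (E 1) n, mapLev (R := R) J (d 0) n y = q := by
    intro n q hq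
    obtain ⟨z, rfl⟩ := Submodule.Quotient.mk_surjective _ q
    rw [augLev_mk, Submodule.Quotient.mk_eq_zero, ← hJ, ← Ideal.map_pow,
      Ideal.mem_map_iff_of_surjective ev (fun r => ⟨algebraMap R A r, ev.commutes r⟩)] at hq
    obtain ⟨u, hu, hu'⟩ := hq
    obtain ⟨e₁, he₁⟩ := hsurj 1
    have hmem : u • e₁ ∈ (J ^ n • ⊤ : Submodule A (E 0)) := Submodule.smul_mem_smul hu trivial
    obtain ⟨y, hy⟩ := (hex0 (z - u • e₁)).1 (by rw [map_sub, hε, he₁, mul_one, hu', sub_self])
    refine ⟨Submodule.Quotient.mk y, ?_⟩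
    rw [mapLev_mk, Submodule.Quotient.eq, hy, sub_sub_cancel_left]
    exact neg_mem hmem
  -- a shift by `c` kills the higher homology
  have exS : ∀ (k n n' : ℕ) (hn : n' ≤ n), n' + c ≤ n → ∀ q : Lev J (E (k + 1)) n,
      mapLev (R := R) J (d k) n q = 0 →
      ∃ y : Lev J (E (k + 2)) n', mapLev (R := R) J (d (k + 1)) n' y = trLev (R := R) J hn q := by
    intro k n n' hn hnc q hq
    rcases lt_or_ge t k with hk | hk
    · haveI := hbd (k + 1) (by omega)
      exact ⟨0, Subsingleton.elim _ _⟩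
    obtain ⟨z, rfl⟩ := Submodule.Quotient.mk_surjective _ q
    rw [mapLev_mk, Submodule.Quotient.mk_eq_zero] at hq
    have hcn : c₀ k ≤ c := hc k hk
    obtain ⟨w, hw, hw'⟩ := hc₀ k n (by omega) z hq
    obtain ⟨v, hv⟩ := (hex k (z - w)).1 (by rw [map_sub, hw', sub_self])
    refine ⟨Submodule.Quotient.mk v, ?_⟩
    rw [mapLev_mk, trLev_mk, Submodule.Quotient.eq, hv, sub_sub_cancel_left]
    exact neg_mem (Submodule.smul_mono (Ideal.pow_le_pow_right (by omega)) le_rfl hw)
  refine ⟨(t + 1) * c, fun M _ _ a b hab habc => ?_⟩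
  let P := projectiveResolution (lev I a)
  let S := projectiveResolution (lev I b)
  haveI hP : ∀ j, Module.Projective R (P.complex.X j) := fun j => (IsProjective.iff_projective _).2 (P.projective j)
  -- maps from the resolution to the levels
  have hψ : ∀ k, k ≤ t + 1 → ∃ n, n + k * c = a ∧
      ∃ ψ : ∀ j, P.complex.X j →ₗ[R] Lev J (E j) n,
        (∀ hn : n ≤ a, ∀ p, augLev J I E ev ε hJ hε n (ψ 0 p) = (tr I hn).hom ((P.π.f 0).hom p)) ∧
        ∀ j, j < k → ∀ p, mapLev (R := R) J (d j) n (ψ (j + 1) p) = ψ j ((P.complex.d (j + 1) j).hom p) := by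
    intro k hk
    induction k with
    | zero =>
      obtain ⟨l, hl⟩ := exists_lift_of_forall (augLev J I E ev ε hJ hε a) (P.π.f 0).hom (fun p => by
        obtain ⟨r, hr⟩ := Submodule.Quotient.mk_surjective (I ^ a) ((P.π.f 0).hom p)
        obtain ⟨z, hz⟩ := hsurj r
        exact ⟨Submodule.Quotient.mk z, by rw [augLev_mk, hz]; exact hr⟩)
      refine ⟨a, by simp, fun j => match j with
        | 0 => l
        | _ + 1 => 0, fun hn p => ?_, fun j hj => absurd hj (Nat.not_lt_zero j)⟩
      show augLev J I E ev ε hJ hε a (l p) = _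
      exact (hl p).trans (tr_self I hn _).symm
    | succ k ih =>
      obtain ⟨n, hn, ψ, hψ0, hψd⟩ := ih (by omega)
      have hck : (k + 1) * c ≤ a := le_trans (Nat.mul_le_mul_right c hk) (by omega)
      rw [Nat.succ_mul] at hck
      have hn' : n - c + (k + 1) * c = a := by rw [Nat.succ_mul]; omega
      obtain ⟨l, hl⟩ := exists_lift_of_forall (mapLev (R := R) J (d k) (n - c))
          ((trLev (R := R) J (Nat.sub_le n c)).comp ((ψ k).comp (P.complex.d (k + 1) k).hom)) (fun p => by
        cases k with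
        | zero =>
          obtain ⟨y, hy⟩ := ex0 n (ψ 0 ((P.complex.d 1 0).hom p)) (by
            rw [hψ0 (by omega), (exact_aug P).1.apply_apply_eq_zero, map_zero])
          exact ⟨trLev (R := R) J (Nat.sub_le n c) y, by rw [← trLev_mapLev, hy]; rfl⟩
        | succ i =>
          obtain ⟨y, hy⟩ := exS i n (n - c) (Nat.sub_le n c) (by omega) (ψ (i + 1) ((P.complex.d (i + 2) (i + 1)).hom p)) (by
            rw [hψd i (Nat.lt_succ_self i), ← ConcreteCategory.comp_apply (P.complex.d (i + 2) (i + 1)),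
              HomologicalComplex.d_comp_d]
            exact map_zero _)
          exact ⟨y, hy⟩)
      refine ⟨n - c, hn', fun j => if hj : j = k + 1 then hj ▸ l else (trLev (R := R) J (Nat.sub_le n c)).comp (ψ j),
        fun hna p => ?_, fun j hj p => ?_⟩
      · dsimp only
        rw [dif_neg (by omega : ¬ (0 = k + 1))]
        obtain ⟨z, hz⟩ := Submodule.Quotient.mk_surjective _ (ψ 0 p)
        obtain ⟨r, hr⟩ := Submodule.Quotient.mk_surjective (I ^ a) ((P.π.f 0).hom p)
        have h1 := hψ0 (by omega) p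
        rw [← hz, augLev_mk, ← hr] at h1
        rw [LinearMap.comp_apply, ← hz, trLev_mk, augLev_mk, ← hr]
        exact congrArg (tr I (Nat.sub_le n c)).hom h1
      · rcases Nat.lt_succ_iff_lt_or_eq.1 hj with hj | rfl
        · dsimp only
          rw [dif_neg (by omega : ¬ (j + 1 = k + 1)), dif_neg (by omega : ¬ (j = k + 1)), LinearMap.comp_apply,
            ← trLev_mapLev, hψd j hj]
          rfl
        · dsimp only
          rw [dif_pos rfl, dif_neg (by omega : ¬ (j = j + 1))]
          exact hl p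
  -- maps from the level `b` to the resolution
  have hρ : ∀ k, ∃ ρ : ∀ j, Lev J (E j) b →ₗ[R] S.complex.X j,
      (∀ q, (S.π.f 0).hom (ρ 0 q) = augLev J I E ev ε hJ hε b q) ∧
      ∀ j, j < k → ∀ q, (S.complex.d (j + 1) j).hom (ρ (j + 1) q) = ρ j (mapLev (R := R) J (d j) b q) := by
    intro k
    induction k with
    | zero =>
      haveI := hproj b 0
      obtain ⟨l, hl⟩ := exists_lift_of_forall (S.π.f 0).hom (augLev J I E ev ε hJ hε b) (fun q => (exact_aug S).2 _)
      exact ⟨fun j => match j with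
        | 0 => l
        | _ + 1 => 0, hl, fun j hj => absurd hj (Nat.not_lt_zero j)⟩
    | succ k ih =>
      obtain ⟨ρ, hρ0, hρd⟩ := ih
      haveI := hproj b (k + 1)
      obtain ⟨l, hl⟩ := exists_lift_of_forall (S.complex.d (k + 1) k).hom
          ((ρ k).comp (mapLev (R := R) J (d k) b)) (fun q => by
        obtain ⟨z, rfl⟩ := Submodule.Quotient.mk_surjective _ q
        cases k with
        | zero =>
          refine ((exact_aug S).1 _).1 ?_
          refine (hρ0 _).trans ?_
          rw [mapLev_mk, augLev_mk, (hex0 _).2 ⟨z, rfl⟩]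
          rfl
        | succ i =>
          refine (((ShortComplex.ShortExact.moduleCat_exact_iff_function_exact _).1 (S.exact_succ i)) _).1 ?_
          refine (hρd i (Nat.lt_succ_self i) _).trans ?_
          rw [mapLev_mk, mapLev_mk, dd, Submodule.Quotient.mk_zero, map_zero])
      refine ⟨fun j => if hj : j = k + 1 then hj ▸ l else ρ j, fun q => ?_, fun j hj q => ?_⟩
      · dsimp only
        rw [dif_neg (by omega : ¬ (0 = k + 1))]
        exact hρ0 q
      · rcases Nat.lt_succ_iff_lt_or_eq.1 hj with hj | rfl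
        · dsimp only
          rw [dif_neg (by omega : ¬ (j + 1 = k + 1)), dif_neg (by omega : ¬ (j = k + 1))]
          exact hρd j hj q
        · dsimp only
          rw [dif_pos rfl, dif_neg (by omega : ¬ (j = j + 1))]
          exact hl q
  obtain ⟨n, hn, ψ, hψ0, hψd⟩ := hψ (t + 1) le_rfl
  obtain ⟨ρ, hρ0, hρd⟩ := hρ (t + 1)
  have hbn : b ≤ n := by omega
  let φ : P.complex ⟶ S.complex :=
    { f := fun j => ModuleCat.ofHom ((ρ j).comp ((trLev (R := R) J hbn).comp (ψ j)))
      comm' := fun i j hij => by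
        obtain rfl : j + 1 = i := hij
        refine ModuleCat.hom_ext (LinearMap.ext fun p => ?_)
        show (S.complex.d (j + 1) j).hom (ρ (j + 1) (trLev (R := R) J hbn (ψ (j + 1) p))) =
          ρ j (trLev (R := R) J hbn (ψ j ((P.complex.d (j + 1) j).hom p)))
        rcases lt_or_ge j (t + 1) with hj | hj
        · rw [hρd j hj, ← trLev_mapLev, hψd j hj]
        · haveI := hbd j (by omega)
          haveI := hbd (j + 1) (by omega)
          rw [Subsingleton.elim (trLev (R := R) J hbn (ψ j ((P.complex.d (j + 1) j).hom p))) 0,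
            Subsingleton.elim (trLev (R := R) J hbn (ψ (j + 1) p)) 0, map_zero, map_zero, map_zero] }
  refine (tor_map_eq_zero_iff M P S φ _ ?_ t).2 fun z _ => ⟨0, ?_⟩
  · refine ModuleCat.hom_ext (LinearMap.ext fun p => ?_)
    show (S.π.f 0).hom (ρ 0 (trLev (R := R) J hbn (ψ 0 p))) = (tr I hab).hom ((P.π.f 0).hom p)
    obtain ⟨w, hw⟩ := Submodule.Quotient.mk_surjective _ (ψ 0 p)
    obtain ⟨r, hr⟩ := Submodule.Quotient.mk_surjective (I ^ a) ((P.π.f 0).hom p)
    have h1 := hψ0 (by omega) p
    rw [← hw, augLev_mk, ← hr] at h1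
    refine (hρ0 _).trans ?_
    rw [← hw, trLev_mk, augLev_mk, ← hr]
    exact congrArg (tr I hbn).hom h1
  · have h0 : φ.f (t + 1) = 0 := by
      refine ModuleCat.hom_ext (LinearMap.ext fun p => ?_)
      haveI := hbd (t + 1) (by omega)
      show ρ (t + 1) (trLev (R := R) J hbn (ψ (t + 1) p)) = 0
      rw [Subsingleton.elim (trLev (R := R) J hbn (ψ (t + 1) p)) 0, map_zero]
    rw [h0, ModuleCat.hom_zero, LinearMap.lTensor_zero, LinearMap.zero_apply, map_zero]

end Main

end Groth.Agent.TorUnif
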